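import Groth.Agent.Et18.Embedding.Point
import Groth.Agent.Et18.FinitePushConstr
import Groth.Agent.Et18.StrataApps
import Groth.Agent.H8ProCons.ConsTopology

/-!
# Constructible sheaves embed in finite direct images of finite constant sheaves (SGA 4 IX 2.14)
-/

set_option autoImplicit false
set_option backward.isDefEq.respectTransparency.types false
set_option backward.isDefEq.respectTransparency false
set_option linter.all false

universe u

open CategoryTheory CategoryTheory.Limits AlgebraicGeometry Opposite Topology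

namespace Groth.Agent.Et18.Embedding

variable {X : Scheme.{u}} [CompactSpace X] [QuasiSeparatedSpace X]

/-- A constructible sheaf on a qcqs scheme embeds in a finite sum of direct images, along finite
morphisms of finite presentation, of finite constant sheaves. -/
theorem exists_embedding {F : EtCoh.Ab X} (hF : EtPBC.IsConstructible F) :
    ∃ (n : ℕ) (Y : Fin n → Scheme.{u}) (f : ∀ i, Y i ⟶ X) (_ : ∀ i, IsFinite (f i))
      (_ : ∀ i, LocallyOfFinitePresentation (f i))
      (M : Fin n → Type) (_ : ∀ i, AddCommGroup (M i)) (_ : ∀ i, Finite (M i))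
      (_ : ∀ i, ∃ (Θ : Type u) (_ : Field Θ) (_ : IsSepClosed Θ) (η : Spec (CommRingCat.of Θ) ⟶ X)
        (s : M i →+ (EtCoh.stalk η).obj F), Function.Injective s)
      (ι : F ⟶ ⨁ fun i => (EtCoh.push (f i)).obj (EtCoh.const (Y i) (M i))), Mono ι := by
  classical
  choose Y f hf hfp M iM hM hS φ Ω iΩ iΩ' ξ hξ hinj using fun x : X => exists_map_injective_at hF x
  have hK : ∀ x, EtPBC.IsConstructible (kernel (φ x)) := fun x =>
    haveI := hf x
    haveI := hfp x
    haveI : Finite (AddCommGrpCat.of (ULift.{u + 1} (M x))) := Finite.of_equiv (M x) Equiv.ulift.symm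
    haveI : CompactSpace (Y x) := QuasiCompact.compactSpace_of_compactSpace (f x)
    haveI : QuasiSeparatedSpace (Y x) := quasiSeparatedSpace_of_quasiSeparated (f x)
    (isConstructible_kernel_cokernel (φ x) hF (isConstructible_push_of_finitePresentation (f x)
      (isConstructible_of_isFLC (isFLC_cst (AddCommGrpCat.of (ULift.{u + 1} (M x))))))).1
  have hinj' : ∀ (z : X) {Θ : Type u} [Field Θ] [IsSepClosed Θ]
      (η : Spec (CommRingCat.of Θ) ⟶ X) (x : X), η default = z → z ∉ EtPBC.supp (kernel (φ x)) →
      Function.Injective ((EtCoh.stalk η).map (φ x)) := fun z Θ _ _ η x hη hz => by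
    have h0 := isZero_stalk_of_not_mem_supp η (hη ▸ hz)
    have h1 : IsZero (kernel ((EtCoh.stalk η).map (φ x))) :=
      h0.of_iso (PreservesKernel.iso (EtCoh.stalk η) (φ x)).symm
    haveI := Preadditive.mono_of_isZero_kernel _ h1
    exact (AddCommGrpCat.mono_iff_injective _).mp inferInstance
  have hmem : ∀ x, x ∉ EtPBC.supp (kernel (φ x)) := fun x hx => by
    letI := iΩ x
    haveI := iΩ' x
    refine (mem_supp_iff _ (ξ x) (hξ x)).mp hx ?_
    haveI : Mono ((EtCoh.stalk (ξ x)).map (φ x)) := ConcreteCategory.mono_of_injective _ (hinj x)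
    exact (isZero_kernel_of_mono ((EtCoh.stalk (ξ x)).map (φ x))).of_iso
      (PreservesKernel.iso (EtCoh.stalk (ξ x)) (φ x))

  obtain ⟨σ, hσ⟩ := @IsCompact.elim_finite_subcover X (constructibleTopology X) Set.univ X
    (H8ProCons.isCompact_cons (@isClosed_univ X (constructibleTopology X)))
    (fun x => (EtPBC.supp (kernel (φ x)))ᶜ)
    (fun x => by
      have hc := ((isLocallyConstructible_supp (hK x)).isConstructible).compl
      exact H8ProCons.isOpen_cons_of_isConstructible hc)
    (fun x _ => Set.mem_iUnion.mpr ⟨x, hmem x⟩)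
  let e := (Fintype.equivFin σ).symm
  let x : Fin (Fintype.card σ) → X := fun i => (e i).1
  refine ⟨_, fun i => Y (x i), fun i => f (x i), fun i => hf _, fun i => hfp _, fun i => M (x i),
    fun i => iM _, fun i => hM _, fun i => hS _, biproduct.lift fun i => φ (x i), mono_of_stalks _ fun z => ?_⟩
  obtain ⟨y, hy, hzy⟩ := Set.mem_iUnion₂.mp (hσ (Set.mem_univ z))
  obtain ⟨i, hi⟩ := e.surjective ⟨y, hy⟩
  have hxi : x i = y := congrArg Subtype.val hi
  have h := hinj' z (sepPoint X z) (x i) (sepPoint_default X z) (hxi ▸ hzy)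
  rw [← biproduct.lift_π (fun i => φ (x i)) i, Functor.map_comp] at h
  intro a b hab
  exact h ((ConcreteCategory.comp_apply _ _ a).trans
    ((congrArg _ hab).trans (ConcreteCategory.comp_apply _ _ b).symm))

end Groth.Agent.Et18.Embedding
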