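import Groth.Agent.Et18.Embedding.Stage
import Groth.Agent.Et18.AlgClosedFunctionField
import Groth.Agent.H8Lim.IntegralApprox
import Groth.Agent.NormalizationLib.Basic
import Groth.Agent.Props12.KerReduced
import Mathlib.FieldTheory.IsAlgClosed.AlgebraicClosure

/-!
# A map to a finite direct image which is injective at a given point
-/

set_option autoImplicit false
set_option backward.isDefEq.respectTransparency.types false
set_option backward.isDefEq.respectTransparency false
set_option linter.all false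

universe u

open CategoryTheory CategoryTheory.Limits AlgebraicGeometry Opposite TopologicalSpace

namespace Groth.Agent.Et18.Embedding

open AlgClosedFunctionField

/-- A sheaf on the spectrum of a separably closed field is constant. -/
theorem isIso_counit_field (K : Type u) [Field K] [IsSepClosed K] (G : EtCoh.Ab (XK K)) :
    IsIso ((EtCore.constAdj (XK K)).counit.app G) := by
  refine isIso_of_stalks_family (ι := PUnit.{u + 2}) (Ω := fun _ => K) (fun _ => 𝟙 (XK K))
    (fun x => ⟨PUnit.unit, Subsingleton.elim _ _⟩) _ fun _ => ?_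
  let B : AddCommGrpCat.{u + 1} := (EtCore.gsec (XK K)).obj G
  let ε : (cst (XK K)).obj B ⟶ G := (EtCore.constAdj (XK K)).counit.app G
  let Φ := Scheme.pointSmallEtale (𝟙 (XK K))
  have h1 : cstSec B (EtCoh.top (XK K)) ≫ ε.hom.app (op (EtCoh.top (XK K))) = 𝟙 B := by
    have hu : (EtCore.constAdj (XK K)).unit.app B = cstSec B (EtCoh.top (XK K)) :=
      constantSheafAdj_unit_top B
    rw [← hu]
    exact (EtCore.constAdj (XK K)).right_triangle_components G
  have h2 : cstGerm (𝟙 (XK K)) B ≫ (EtCoh.stalk (𝟙 (XK K))).map ε =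
      Φ.toPresheafFiber (EtCoh.top (XK K)) (topPt _) G.obj := by
    refine (Category.assoc _ _ _).trans ?_
    refine (congrArg (cstSec B _ ≫ ·) (Φ.toPresheafFiber_naturality ε.hom _ (topPt _))).trans ?_
    refine (Category.assoc _ _ _).symm.trans ?_
    rw [h1]
    exact Category.id_comp _
  haveI : IsIso (cstGerm (𝟙 (XK K)) B) :=
    (ConcreteCategory.isIso_iff_bijective _).2 (cstGerm_bijective _ B)
  haveI : IsIso (cstGerm (𝟙 (XK K)) B ≫ (EtCoh.stalk (𝟙 (XK K))).map ε) := by
    rw [h2]
    exact (ConcreteCategory.isIso_iff_bijective _).2 (bijective_germ_top K G)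
  exact IsIso.of_isIso_comp_left (cstGerm (𝟙 (XK K)) B) _

/-- An integral scheme, integral over `X`, normal with algebraically closed function field, with
generic point over a given point. -/
theorem exists_algClosed_model {X : Scheme.{u}} (x : X) :
    ∃ (Z : Scheme.{u}) (_ : IsIntegral Z) (p : Z ⟶ X), IsIntegralHom p ∧
      IsAlgClosed Z.functionField ∧ Pi1.IsNormalScheme Z ∧ p (genericPoint Z) = x := by
  let T : Closeds X := ⟨closure {x}, isClosed_closure⟩
  let C : Scheme.{u} := (Scheme.IdealSheafData.vanishingIdeal T).subscheme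
  let i : C ⟶ X := (Scheme.IdealSheafData.vanishingIdeal T).subschemeι
  have hr : Set.range i = closure {x} := by
    rw [Scheme.IdealSheafData.range_subschemeι, Scheme.IdealSheafData.coe_support_vanishingIdeal]
    rfl
  haveI : IsReduced C := Props12.isReduced_subscheme_vanishingIdeal T
  obtain ⟨c, hc⟩ : x ∈ Set.range i := hr ▸ subset_closure rfl
  have hgen : IsGenericPoint c Set.univ := by
    rw [IsGenericPoint, i.isEmbedding.isInducing.closure_eq_preimage_closure_image, Set.image_singleton,
      hc, ← hr, Set.preimage_range]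
  haveI : IrreducibleSpace C := by
    refine (irreducibleSpace_def _).mpr ?_
    show IsIrreducible (Set.univ : Set C)
    rw [← hgen.def]
    exact isIrreducible_singleton.closure
  haveI : IsIntegral C := isIntegral_of_irreducibleSpace_of_isReduced _
  let φ : C.functionField →+* AlgebraicClosure C.functionField := algebraMap _ _
  let g : Spec (CommRingCat.of (AlgebraicClosure C.functionField)) ⟶ C :=
    Spec.map (CommRingCat.ofHom φ) ≫ C.fromSpecStalk (genericPoint C)
  haveI : QuasiCompact g := ⟨fun U _ _ => (Set.toFinite _).isCompact⟩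
  haveI : QuasiSeparated g := inferInstance
  let Z := g.normalization
  have hz : g.toNormalization (IsLocalRing.closedPoint _) = genericPoint Z :=
    NormalizationLib.toNormalization_closedPoint g
  have hsurj : Function.Surjective (Scheme.stalkClosedPointTo g.toNormalization).hom := fun y => by
    have h : y ∈ Set.range (Scheme.stalkClosedPointTo g.toNormalization).hom := by
      rw [NormalizationLib.range_stalkClosedPointTo φ g rfl]
      exact Algebra.IsIntegral.isIntegral (R := C.functionField) y
    exact h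
  let e₁ := RingEquiv.ofBijective (Scheme.stalkClosedPointTo g.toNormalization).hom
    ⟨NormalizationLib.injective_stalkClosedPointTo φ g rfl, hsurj⟩
  let e₂ := (Z.presheaf.stalkCongr (Inseparable.of_eq hz.symm)).commRingCatIsoToRingEquiv
  refine ⟨Z, inferInstance, g.fromNormalization ≫ i, inferInstance, ?_,
    NormalizationLib.isNormal φ g rfl, ?_⟩
  · exact IsAlgClosed.of_ringEquiv (AlgebraicClosure C.functionField) Z.functionField
      (e₂.trans e₁).symm
  · rw [Scheme.Hom.comp_apply, NormalizationLib.fromNormalization_genericPoint φ g rfl]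
    exact ((genericPoint_spec C).eq hgen) ▸ hc

variable {X : Scheme.{u}} [CompactSpace X] [QuasiSeparatedSpace X]

/-- For every point a map to a direct image of a finite constant sheaf, injective on the stalk. -/
theorem exists_map_injective_at {F : EtCoh.Ab X} (hF : EtPBC.IsConstructible F) (x : X) :
    ∃ (Y : Scheme.{u}) (f : Y ⟶ X) (_ : IsFinite f) (_ : LocallyOfFinitePresentation f)
      (M : Type) (_ : AddCommGroup M) (_ : Finite M)
      (_ : ∃ (Θ : Type u) (_ : Field Θ) (_ : IsSepClosed Θ) (η : Spec (CommRingCat.of Θ) ⟶ X)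
        (s : M →+ (EtCoh.stalk η).obj F), Function.Injective s)
      (φ : F ⟶ (EtCoh.push f).obj (EtCoh.const Y M)) (Ω : Type u) (_ : Field Ω) (_ : IsSepClosed Ω)
      (ξ : Spec (CommRingCat.of Ω) ⟶ X), ξ default = x ∧
        Function.Injective ((EtCoh.stalk ξ).map φ) := by
  obtain ⟨Z, _, p, hp, _, hnorm, hpx⟩ := exists_algClosed_model x
  haveI := hp
  let K := Z.functionField
  let ξ₀ : XK K ⟶ X := AlgClosedFunctionField.gen Z ≫ p
  let ξ : XK K ⟶ X := 𝟙 _ ≫ ξ₀
  have hξ : ξ default = x := by
    show p (AlgClosedFunctionField.gen Z ((𝟙 (XK K) : XK K ⟶ XK K) default)) = x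
    have : AlgClosedFunctionField.gen Z default = genericPoint Z := (range_gen Z ▸ Set.mem_range_self _ :)
    rw [show ((𝟙 (XK K) : XK K ⟶ XK K) default) = default from rfl, this, hpx]
  let G := (EtCoh.pull ξ₀).obj F
  let B : AddCommGrpCat.{u + 1} := (EtCore.gsec (XK K)).obj G
  haveI : Finite ((EtCoh.stalk ξ).obj F) := finite_stalk_of_isConstructible hF ξ
  haveI : Finite ((EtCoh.stalk (𝟙 (XK K))).obj G) :=
    Finite.of_equiv _ ((stalkPullIso ξ₀ (𝟙 (XK K))).app F).addCommGroupIsoToAddEquiv.symm.toEquiv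
  haveI : Finite B := @Finite.of_injective _ _ ‹Finite ((EtCoh.stalk (𝟙 (XK K))).obj G)› _ (bijective_germ_top K G).1
  obtain ⟨M, iM, hM, ⟨eM⟩⟩ := addCommGrp_exists_small B
  let A : AddCommGrpCat.{u + 1} := AddCommGrpCat.of (ULift.{u + 1} M)
  haveI : Finite A := Finite.of_equiv M Equiv.ulift.symm
  haveI := isIso_counit_field K G
  let e : G ≅ (cst (XK K)).obj A :=
    (asIso ((EtCore.constAdj (XK K)).counit.app G)).symm ≪≫ (cst (XK K)).mapIso eM
  haveI := UnitConst.isIso_psi (AlgClosedFunctionField.gen Z) A (good_of_small _ (small_gen Z fun y => (hnorm y).2) A)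
  let τ : (EtCoh.push ξ₀).obj G ≅ pc A p := (EtCoh.push ξ₀).mapIso e ≪≫
    ((EtCoh.pushComp p (AlgClosedFunctionField.gen Z)).app _).symm ≪≫
      (EtCoh.push p).mapIso (asIso (UnitConst.psi (AlgClosedFunctionField.gen Z) A)).symm
  let lam : F ⟶ pc A p := (EtCoh.pullPushAdj ξ₀).unit.app F ≫ τ.hom
  haveI : Mono ((EtCoh.pull ξ₀).map lam) := by
    haveI : IsSplitMono ((EtCoh.pull ξ₀).map ((EtCoh.pullPushAdj ξ₀).unit.app F)) :=
      IsSplitMono.mk' ⟨_, (EtCoh.pullPushAdj ξ₀).left_triangle_components F⟩
    rw [Functor.map_comp]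
    infer_instance
  obtain ⟨I, _, _, _, D, c, hc, hD, ⟨ec⟩⟩ := H8Lim.exists_limit_integral_finitePresentation p
  haveI := fun i => (hD i).1
  have hc' : IsLimit (c.extend ec.inv) := IsLimit.extendIso ec.inv hc
  obtain ⟨i, g, hg⟩ := (homComm_system A D (c.extend ec.inv) hc' hF).surj lam
  refine ⟨(D.obj (op i)).left, (D.obj (op i)).hom, (hD _).1, (hD _).2, M, iM, hM, ?_, g, K, inferInstance,
    inferInstance, ξ, hξ, ?_⟩
  · let s₀ : A →+ (EtCoh.stalk ξ).obj F := (eM.inv ≫ (Scheme.pointSmallEtale (𝟙 (XK K))).toPresheafFiber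
      (EtCoh.top (XK K)) (topPt _) G.obj ≫ ((stalkPullIso ξ₀ (𝟙 (XK K))).app F).hom).hom
    refine ⟨K, inferInstance, inferInstance, ξ, s₀.comp AddEquiv.ulift.symm.toAddMonoidHom, ?_⟩
    have h₀ : Function.Injective s₀ :=
      (ConcreteCategory.bijective_of_isIso ((stalkPullIso ξ₀ (𝟙 (XK K))).app F).hom).1.comp
        ((bijective_germ_top K G).1.comp (ConcreteCategory.bijective_of_isIso eM.inv).1)
    exact fun a b h => (AddEquiv.ulift (α := M)).symm.injective (h₀ h)
  haveI : Mono ((EtCoh.pull ξ₀).map g) := by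
    have h : (EtCoh.pull ξ₀).map g ≫ (EtCoh.pull ξ₀).map ((systemCocone A D (c.extend ec.inv)).ι.app i) =
        (EtCoh.pull ξ₀).map lam :=
      ((EtCoh.pull ξ₀).map_comp _ _).symm.trans (congrArg (EtCoh.pull ξ₀).map hg)
    exact mono_of_mono_fac h
  haveI : Mono ((EtCoh.stalk (𝟙 (XK K))).map ((EtCoh.pull ξ₀).map g)) := inferInstance
  haveI : Mono ((EtCoh.stalk ξ).map g) :=
    ((MorphismProperty.monomorphisms _).arrow_mk_iso_iff
      ((Functor.mapArrowFunctor _ _).mapIso (stalkPullIso ξ₀ (𝟙 (XK K))) |>.app (Arrow.mk g))).mp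
      (inferInstanceAs (Mono ((EtCoh.stalk (𝟙 (XK K))).map ((EtCoh.pull ξ₀).map g))))
  exact (AddCommGrpCat.mono_iff_injective _).mp inferInstance

end Groth.Agent.Et18.Embedding
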