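import Groth.Agent.EtUnitLib.ConstVal
import Groth.Agent.Et18.ConsCompact
import Groth.Agent.H8Lim.Topology

/-!
# Direct images of constant sheaves along limits

For a cofiltered limit `p : Z → X` of morphisms `p_i : Z_i → X` finite, the direct image of a finite
constant sheaf along `p` is, for the purposes of maps out of constructible sheaves, the colimit of
those along the `p_i`: sections are locally constant functions.
-/

set_option autoImplicit false
set_option backward.isDefEq.respectTransparency.types false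
set_option backward.isDefEq.respectTransparency false
set_option linter.all false

universe u

open CategoryTheory CategoryTheory.Limits AlgebraicGeometry Opposite TopologicalSpace
open Groth.Agent.EtUnitLib

namespace Groth.Agent.Et18.Embedding

section Descend

variable {I : Type u} [SmallCategory I] [IsCofiltered I] (D : I ⥤ Scheme.{u}) (c : Cone D)
  (hc : IsLimit c) [∀ {i j} (f : i ⟶ j), IsAffineHom (D.map f)] [∀ i, CompactSpace (D.obj i)]
  [∀ i, QuasiSeparatedSpace (D.obj i)]

include hc in
/-- Locally constant functions on a limit which agree, agree at a finite stage. -/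
theorem eventually_eq {α : Type*} {i : I} {g g' : D.obj i → α} (hg : IsLocallyConstant g)
    (hg' : IsLocallyConstant g') (h : ∀ z, g (c.π.app i z) = g' (c.π.app i z)) :
    ∃ (j : I) (a : j ⟶ i), ∀ z, g (D.map a z) = g' (D.map a z) := by
  let U : (D.obj i).Opens := ⟨{z | g z = g' z}, by
    have h2 : IsLocallyConstant fun z => (g z, g' z) := hg.prodMk hg'
    exact h2 {q | q.1 = q.2}⟩
  obtain ⟨j, a, hj⟩ := exists_map_eq_top D c hc U (by
    ext z
    exact ⟨fun _ => trivial, fun _ => h z⟩)
  exact ⟨j, a, fun z => (hj.ge (trivial : z ∈ (⊤ : (D.obj j).Opens)) :)⟩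

include hc in
/-- A locally constant function with finitely many values on a limit comes from a finite stage. -/
theorem exists_stage_fun {α : Type*} [Finite α] {f : c.pt → α} (hf : IsLocallyConstant f) :
    ∃ (i : I) (g : D.obj i → α), IsLocallyConstant g ∧ ∀ z, g (c.π.app i z) = f z := by
  classical
  haveI := Scheme.compactSpace_of_isLimit D c hc
  haveI := Fintype.ofFinite α
  let U : α → c.pt.Opens := fun a => ⟨f ⁻¹' {a}, hf.isOpen_fiber a⟩
  choose i V hV hVU using fun a : α =>
    exists_preimage_eq D c hc (U a) (hf.isClopen_fiber a).1.isCompact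
  obtain ⟨j, hj⟩ := IsCofiltered.inf_objs_exists (Finset.univ.image i)
  let t : ∀ a, j ⟶ i a := fun a => (hj (Finset.mem_image_of_mem i (Finset.mem_univ a))).some
  let V' : α → (D.obj j).Opens := fun a => D.map (t a) ⁻¹ᵁ V a
  have hV' : ∀ a z, c.π.app j z ∈ V' a ↔ f z = a := fun a z => by
    have e : D.map (t a) (c.π.app j z) = c.π.app (i a) z := H8Lim.π_app_apply (t a) z
    show D.map (t a) (c.π.app j z) ∈ V a ↔ _
    rw [e]
    exact (congrArg (fun O : c.pt.Opens => z ∈ O) (hVU a)).to_iff
  obtain ⟨k₁, s₁, hs₁⟩ := exists_map_eq_top D c hc (⨆ a, V' a) (by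
    ext z
    exact ⟨fun _ => trivial, fun _ => Opens.mem_iSup.mpr ⟨f z, (hV' _ z).mpr rfl⟩⟩)
  -- the pieces are eventually disjoint
  have hdis : ∀ S : Finset (α × α), ∃ (k : I) (s : k ⟶ j), ∀ p ∈ S, p.1 ≠ p.2 →
      ∀ z, D.map s z ∈ V' p.1 → D.map s z ∈ V' p.2 → False := by
    intro S
    induction S using Finset.induction_on with
    | empty => exact ⟨j, 𝟙 j, fun p hp => absurd hp (Finset.notMem_empty p)⟩
    | @insert p S _ ih =>
      obtain ⟨k, s, hs⟩ := ih
      have hcl : ∀ a, IsCompact ((V' a : (D.obj j).Opens) : Set (D.obj j)) := fun a =>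
        QuasiCompact.isCompact_preimage _ (V a).2 (hV a)
      by_cases hp : p.1 = p.2
      · refine ⟨k, s, fun q hq hne => ?_⟩
        rcases Finset.mem_insert.mp hq with rfl | hq
        · exact absurd hp hne
        · exact hs q hq hne
      obtain ⟨k', s', hs'⟩ := exists_map_preimage_le_map_preimage D c hc (i := j)
        (U := V' p.1 ⊓ V' p.2) (V := ⊥)
        (QuasiSeparatedSpace.inter_isCompact _ _ (V' p.1).2 (hcl _) (V' p.2).2 (hcl _))
        (fun z hz => (hp (((hV' _ z).mp hz.1).symm.trans ((hV' _ z).mp hz.2))).elim)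
      obtain ⟨l, u, v, e⟩ := IsCofiltered.cospan s s'
      refine ⟨l, u ≫ s, fun q hq hne z h1 h2 => ?_⟩
      rcases Finset.mem_insert.mp hq with rfl | hq
      · rw [e] at h1 h2
        rw [D.map_comp, Scheme.Hom.comp_apply] at h1 h2
        exact (hs' (show D.map v z ∈ D.map s' ⁻¹ᵁ (V' q.1 ⊓ V' q.2) from ⟨h1, h2⟩) :)
      · rw [D.map_comp, Scheme.Hom.comp_apply] at h1 h2
        exact hs q hq hne (D.map u z) h1 h2
  obtain ⟨k₂, s₂, hs₂⟩ := hdis Finset.univ
  obtain ⟨l, u, v, e⟩ := IsCofiltered.cospan s₁ s₂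
  let w : l ⟶ j := v ≫ s₂
  have hmem : ∀ z, ∃ a, D.map w z ∈ V' a := fun z => by
    have hw : D.map w z = D.map s₁ (D.map u z) := by
      show D.map (v ≫ s₂) z = _
      rw [← e, D.map_comp, Scheme.Hom.comp_apply]
    have h : D.map s₁ (D.map u z) ∈ (⨆ a, V' a) :=
      (hs₁.ge (trivial : D.map u z ∈ (⊤ : (D.obj k₁).Opens)) :)
    exact hw ▸ Opens.mem_iSup.mp h
  choose g hg using hmem
  have huniq : ∀ z a, D.map w z ∈ V' a → g z = a := fun z a ha => by
    by_contra hne
    refine hs₂ (g z, a) (Finset.mem_univ _) hne (D.map v z) ?_ ?_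
    · rw [← Scheme.Hom.comp_apply, ← D.map_comp]; exact hg z
    · rw [← Scheme.Hom.comp_apply, ← D.map_comp]; exact ha
  refine ⟨l, g, (IsLocallyConstant.iff_exists_open g).mpr fun z => ?_, fun z => ?_⟩
  · exact ⟨D.map w ⁻¹ᵁ V' (g z), (D.map w ⁻¹ᵁ V' (g z)).2, hg z, fun z' hz' => huniq z' _ hz'⟩
  · refine huniq _ _ ?_
    rw [H8Lim.π_app_apply w z]
    exact (hV' _ z).mpr rfl

end Descend

section Germ

variable {X : Scheme.{u}} {A : AddCommGrpCat.{u + 1}} {U : X.Etale}

/-- The germ of a section of a constant sheaf is the germ of its value. -/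
theorem cstGerm_val (s : EtCoh.sect ((cst X).obj A) U) (y : U.left) :
    cstGerm (sepPoint U.left y ≫ U.hom) A (val s y) =
      (Scheme.pointSmallEtale (sepPoint U.left y ≫ U.hom)).toPresheafFiber U
        (Over.homMk (sepPoint U.left y) rfl) ((cst X).obj A).obj s := by
  obtain ⟨W, g, w, hw, hc⟩ := hasVal_val s y
  let η := sepPoint U.left y
  let ξ := η ≫ U.hom
  have := etale_map_left g
  obtain ⟨l, hl, -⟩ := Scheme.exists_fac_of_etale_of_isSepClosed g.left η w
    (hw.trans (sepPoint_default U.left y).symm)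
  let lv : (Scheme.pointSmallEtale ξ).fiber.obj W := Over.homMk l (by
    show l ≫ W.hom = η ≫ U.hom
    rw [← hl, Category.assoc, MorphismProperty.Over.w g])
  have hlv : (Scheme.pointSmallEtale ξ).fiber.map g lv = Over.homMk (sepPoint U.left y) rfl :=
    Over.OverMorphism.ext hl
  rw [← hlv, ← (Scheme.pointSmallEtale ξ).toPresheafFiber_w_apply g lv ((cst X).obj A).obj s, hc]
  exact (ConcreteCategory.congr_hom (cstSec_germ ξ A W lv) _).symm

theorem val_add (s t : EtCoh.sect ((cst X).obj A) U) (y : U.left) :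
    val (s + t) y = val s y + val t y := by
  refine (cstGerm_bijective (sepPoint U.left y ≫ U.hom) A).1 ?_
  exact ((cstGerm_val (s + t) y).trans (map_add _ s t)).trans
    ((congrArg₂ (· + ·) (cstGerm_val s y).symm (cstGerm_val t y).symm).trans (map_add _ _ _).symm)

theorem val_zero (y : U.left) : val (0 : EtCoh.sect ((cst X).obj A) U) y = 0 := by
  refine (cstGerm_bijective (sepPoint U.left y ≫ U.hom) A).1 ?_
  exact ((cstGerm_val 0 y).trans (map_zero _)).trans (map_zero _).symm

end Germ

section Push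

variable {X : Scheme.{u}} (A : AddCommGrpCat.{u + 1})

/-- The direct image of a constant sheaf. -/
noncomputable abbrev pc {Z : Scheme.{u}} (p : Z ⟶ X) : EtCoh.Ab X :=
  (EtCoh.push p).obj ((cst Z).obj A)

variable {Z Z' : Scheme.{u}} {p : Z ⟶ X} {p' : Z' ⟶ X} (t : Z' ⟶ Z) (h : t ≫ p = p')
include h

/-- The map of base changes. -/
noncomputable def vm (W : X.Etale) : ((EtCoh.bc p').obj W).left ⟶ ((EtCoh.bc p).obj W).left :=
  pullback.map W.hom p' W.hom p (𝟙 _) t (𝟙 X) ((Category.comp_id _).trans (Category.id_comp _).symm)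
    ((Category.comp_id _).trans h.symm)

theorem vm_natural {V W : X.Etale} (g : V ⟶ W) :
    ((EtCoh.bc p').map g).left ≫ vm t h W = vm t h V ≫ ((EtCoh.bc p).map g).left := by
  apply pullback.hom_ext <;> simp [vm, EtCoh.bc]

variable {A}

/-- Inverse image of a section of the constant sheaf. -/
noncomputable def tmFun (W : X.Etale) (s : EtCoh.sect (pc A p) W) : EtCoh.sect (pc A p') W :=
  (exists_val_eq (X := Z') (U := (EtCoh.bc p').obj W)
    (f := fun y => val (U := (EtCoh.bc p).obj W) s (vm t h W y))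
    ((isLocallyConstant_val _).comp_continuous (vm t h W).continuous)).choose

theorem val_tmFun (W : X.Etale) (s : EtCoh.sect (pc A p) W) (y : ((EtCoh.bc p').obj W).left) :
    val (U := (EtCoh.bc p').obj W) (tmFun t h W s) y = val (U := (EtCoh.bc p).obj W) s (vm t h W y) :=
  (exists_val_eq (X := Z') (U := (EtCoh.bc p').obj W)
    (f := fun y => val (U := (EtCoh.bc p).obj W) s (vm t h W y))
    ((isLocallyConstant_val _).comp_continuous (vm t h W).continuous)).choose_spec y

theorem tmFun_res {V W : X.Etale} (g : V ⟶ W) (s : EtCoh.sect (pc A p) W) :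
    tmFun t h V ((pc A p).obj.map g.op s) = (pc A p').obj.map g.op (tmFun t h W s) :=
  ext_val (U := (EtCoh.bc p').obj V) fun y => by
    rw [val_tmFun]
    refine (val_map ((EtCoh.bc p).map g) s _).trans ?_
    refine Eq.trans ?_ (val_map ((EtCoh.bc p').map g) (tmFun t h W s) y).symm
    rw [val_tmFun, ← Scheme.Hom.comp_apply, ← Scheme.Hom.comp_apply, vm_natural]

variable (A) in
/-- The comparison of direct images of constant sheaves. -/
noncomputable def tm : pc A p ⟶ pc A p' :=
  ⟨{ app := fun W => AddCommGrpCat.ofHom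
      { toFun := tmFun t h W.unop
        map_zero' := ext_val (U := (EtCoh.bc p').obj W.unop) fun y => by
          rw [val_tmFun]; exact (val_zero _).trans (val_zero _).symm
        map_add' := fun a b => ext_val (U := (EtCoh.bc p').obj W.unop) fun y => by
          refine Eq.trans ?_ (val_add _ _ _).symm
          rw [val_tmFun, val_tmFun, val_tmFun]
          exact val_add _ _ _ }
     naturality := fun V W g => AddCommGrpCat.hom_ext (AddMonoidHom.ext fun s =>
      tmFun_res t h g.unop s) }⟩

theorem val_tm (W : X.Etale) (s : EtCoh.sect (pc A p) W) (y : ((EtCoh.bc p').obj W).left) :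
    val (U := (EtCoh.bc p').obj W) ((tm A t h).hom.app (op W) s) y =
      val (U := (EtCoh.bc p).obj W) s (vm t h W y) :=
  val_tmFun t h W s y

end Push

section System

variable {X : Scheme.{u}} (A : AddCommGrpCat.{u + 1}) {I : Type u} [Preorder I]
  (D : Iᵒᵖ ⥤ Over X) (c : Cone D)

lemma pc_hom_ext {Z : Scheme.{u}} {p : Z ⟶ X} {F : EtCoh.Ab X} {a b : F ⟶ pc A p}
    (h : ∀ (W : X.Etale) (s : EtCoh.sect F W) (y : ((EtCoh.bc p).obj W).left),
      val (U := (EtCoh.bc p).obj W) (a.hom.app (op W) s) y =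
        val (U := (EtCoh.bc p).obj W) (b.hom.app (op W) s) y) : a = b :=
  Sheaf.hom_ext (NatTrans.ext (funext fun W => AddCommGrpCat.hom_ext (AddMonoidHom.ext fun s =>
    ext_val (U := (EtCoh.bc p).obj W.unop) (h W.unop s))))

lemma vm_id {Z : Scheme.{u}} (p : Z ⟶ X) (h : 𝟙 Z ≫ p = p) (W : X.Etale) :
    vm (𝟙 Z) h W = 𝟙 _ := by
  apply pullback.hom_ext <;> simp [vm, EtCoh.bc] <;> exact (Category.id_comp _).symm

lemma vm_comp {Z Z' Z'' : Scheme.{u}} {p : Z ⟶ X} {p' : Z' ⟶ X} {p'' : Z'' ⟶ X} (t : Z' ⟶ Z)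
    (h : t ≫ p = p') (t' : Z'' ⟶ Z') (h' : t' ≫ p' = p'') (r : Z'' ⟶ Z) (hr : r ≫ p = p'')
    (e : t' ≫ t = r) (W : X.Etale) : vm t' h' W ≫ vm t h W = vm r hr W := by
  subst e
  apply pullback.hom_ext <;> simp [vm, EtCoh.bc]

theorem tm_comp {Z Z' Z'' : Scheme.{u}} {p : Z ⟶ X} {p' : Z' ⟶ X} {p'' : Z'' ⟶ X} (t : Z' ⟶ Z)
    (h : t ≫ p = p') (t' : Z'' ⟶ Z') (h' : t' ≫ p' = p'') (r : Z'' ⟶ Z) (hr : r ≫ p = p'')
    (e : t' ≫ t = r) : tm A t h ≫ tm A t' h' = tm A r hr :=
  pc_hom_ext A fun W s y => by
    refine (val_tm t' h' W ((tm A t h).hom.app (op W) s) y).trans ((val_tm t h W s _).trans ?_)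
    rw [val_tm, ← Scheme.Hom.comp_apply, vm_comp t h t' h' r hr e]

theorem tm_id {Z : Scheme.{u}} (p : Z ⟶ X) (h : 𝟙 Z ≫ p = p) : tm A (𝟙 Z) h = 𝟙 (pc A p) :=
  pc_hom_ext A fun W s y => by
    rw [val_tm, vm_id]
    rfl

/-- The direct system of direct images. -/
noncomputable def system : I ⥤ EtCoh.Ab X where
  obj i := pc A (D.obj (op i)).hom
  map a := tm A (D.map a.op).left (Over.w _)
  map_id i := by
    simp only [op_id, CategoryTheory.Functor.map_id, Over.id_left]
    exact tm_id A _ _
  map_comp a b := (tm_comp A _ _ _ _ _ _ (by rw [← Over.comp_left, ← D.map_comp]; rfl)).symm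

/-- Its cocone at the limit. -/
noncomputable def systemCocone : Cocone (system A D) where
  pt := pc A c.pt.hom
  ι :=
    { app := fun i => tm A (c.π.app (op i)).left (Over.w _)
      naturality := fun i j a => by
        refine Eq.trans ?_ (Category.comp_id _).symm
        exact tm_comp A _ _ _ _ _ _ (by rw [← Over.comp_left, c.w]) }

end System

section Compact

variable {X : Scheme.{u}} (A : AddCommGrpCat.{u + 1}) {I : Type u} [Preorder I]
  [IsDirected I (fun a b => a ≤ b)] [Nonempty I] (D : Iᵒᵖ ⥤ Over X) (c : Cone D) (hc : IsLimit c)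
  [∀ i, IsFinite (D.obj i).hom]

/-- The base change of the system to an étale scheme. -/
noncomputable def bcDiagram (W : X.Etale) : Iᵒᵖ ⥤ Scheme.{u} :=
  D ⋙ Over.pullback W.hom ⋙ Over.forget W.left

instance (W : X.Etale) {i j : Iᵒᵖ} (f : i ⟶ j) : IsAffineHom ((bcDiagram D W).map f) := by
  let φ := (Over.pullback W.hom).map (D.map f)
  haveI : IsAffineHom ((Over.pullback W.hom).obj (D.obj i)).hom :=
    inferInstanceAs (IsAffineHom (pullback.snd (D.obj i).hom W.hom))
  haveI : IsAffineHom ((Over.pullback W.hom).obj (D.obj j)).hom :=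
    inferInstanceAs (IsAffineHom (pullback.snd (D.obj j).hom W.hom))
  haveI : IsAffineHom (φ.left ≫ ((Over.pullback W.hom).obj (D.obj j)).hom) := by
    rw [Over.w φ]; infer_instance
  exact MorphismProperty.of_postcomp (W := @IsAffineHom) (W' := @IsSeparated) φ.left
    ((Over.pullback W.hom).obj (D.obj j)).hom inferInstance inferInstance

instance compactSpace_bcDiagram (W : X.Etale) [CompactSpace W.left] (i : Iᵒᵖ) :
    CompactSpace ((bcDiagram D W).obj i) :=
  haveI : CompactSpace ↥((𝟭 Scheme.{u}).obj W.left) := ‹CompactSpace W.left›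
  QuasiCompact.compactSpace_of_compactSpace (pullback.snd (D.obj i).hom W.hom)

instance quasiSeparatedSpace_bcDiagram (W : X.Etale) [QuasiSeparatedSpace W.left] (i : Iᵒᵖ) :
    QuasiSeparatedSpace ((bcDiagram D W).obj i) :=
  haveI : QuasiSeparatedSpace ↥((𝟭 Scheme.{u}).obj W.left) := ‹QuasiSeparatedSpace W.left›
  quasiSeparatedSpace_of_quasiSeparated (pullback.snd (D.obj i).hom W.hom)

/-- Sections at the limit over a qcqs object come from finite stages. -/
theorem exists_stage_section [Finite A] (W : X.Etale) [CompactSpace W.left] [QuasiSeparatedSpace W.left]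
    (hc : IsLimit c) (s : EtCoh.sect (pc A c.pt.hom) W) :
    ∃ (i : I) (s' : EtCoh.sect (pc A (D.obj (op i)).hom) W),
      ((systemCocone A D c).ι.app i).hom.app (op W) s' = s := by
  let E := Over.pullback W.hom ⋙ Over.forget W.left
  have hc' : IsLimit (E.mapCone c) := isLimitOfPreserves E hc
  let σ : ∀ Y : Over X, (E.obj Y : Scheme.{u}) ⟶ ((EtCoh.bc Y.hom).obj W).left := fun Y =>
    (pullbackSymmetry Y.hom W.hom).hom
  obtain ⟨i, g, hg, hgf⟩ := exists_stage_fun (bcDiagram D W) (E.mapCone c) hc'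
    ((isLocallyConstant_val (U := (EtCoh.bc c.pt.hom).obj W) s).comp_continuous (σ c.pt).continuous)
  let σ' := (pullbackSymmetry W.hom (D.obj i).hom).hom
  obtain ⟨s', hs'⟩ := exists_val_eq (X := (D.obj i).left) (A := A) (U := (EtCoh.bc (D.obj i).hom).obj W)
    (hg.comp_continuous σ'.continuous)
  refine ⟨i.unop, s', ext_val (U := (EtCoh.bc c.pt.hom).obj W) fun y => ?_⟩
  refine (val_tm _ _ W s' y).trans ((hs' _).trans ?_)
  let z := (pullbackSymmetry W.hom c.pt.hom).hom y
  have e1 : vm (c.π.app i).left (Over.w _) W ≫ σ' =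
      (pullbackSymmetry W.hom c.pt.hom).hom ≫ E.map (c.π.app i) := by
    apply pullback.hom_ext <;> simp [vm, σ', E, EtCoh.bc]
  refine (congrArg g (congrArg (fun k => k y) e1)).trans ?_
  refine (hgf z).trans ?_
  show val (U := (EtCoh.bc c.pt.hom).obj W) s (σ c.pt z) = _
  exact congrArg (val (U := (EtCoh.bc c.pt.hom).obj W) s)
    (congrArg (fun k => k y) (pullbackSymmetry W.hom c.pt.hom).hom_inv_id)

/-- Sections dying at the limit die at a finite stage. -/
theorem exists_stage_zero (W : X.Etale) [CompactSpace W.left] [QuasiSeparatedSpace W.left]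
    (hc : IsLimit c) (i : I) (s : EtCoh.sect (pc A (D.obj (op i)).hom) W)
    (h : ((systemCocone A D c).ι.app i).hom.app (op W) s = 0) :
    ∃ (j : I) (a : i ⟶ j), ((system A D).map a).hom.app (op W) s = 0 := by
  let E := Over.pullback W.hom ⋙ Over.forget W.left
  have hc' : IsLimit (E.mapCone c) := isLimitOfPreserves E hc
  let σ : ∀ Y : Over X, (E.obj Y : Scheme.{u}) ⟶ ((EtCoh.bc Y.hom).obj W).left := fun Y =>
    (pullbackSymmetry Y.hom W.hom).hom
  have hnat : ∀ {Y Y' : Over X} (a : Y' ⟶ Y), σ Y' ≫ vm a.left (Over.w a) W = E.map a ≫ σ Y := fun a => by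
    apply pullback.hom_ext <;> simp [vm, σ, E, EtCoh.bc]
  let g : (E.obj (D.obj (op i)) : Scheme.{u}) → A := fun z =>
    val (U := (EtCoh.bc (D.obj (op i)).hom).obj W) s (σ _ z)
  obtain ⟨j, a, hj⟩ := eventually_eq (bcDiagram D W) (E.mapCone c) hc' (i := op i) (g := g)
    (g' := fun _ => (0 : A))
    ((isLocallyConstant_val _).comp_continuous (σ _).continuous) (IsLocallyConstant.const _) (fun z => by
      have e := congrArg (fun t => val (U := (EtCoh.bc c.pt.hom).obj W) t (σ c.pt z)) h
      refine Eq.trans ?_ (e.trans (val_zero _))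
      refine Eq.trans ?_ (val_tm _ _ W s _).symm
      exact congrArg (val (U := (EtCoh.bc (D.obj (op i)).hom).obj W) s)
        (congrArg (fun k => k z) (hnat (c.π.app (op i)))).symm)
  refine ⟨j.unop, a.unop, ext_val (U := (EtCoh.bc (D.obj j).hom).obj W) fun y => ?_⟩
  refine (val_tm _ _ W s y).trans (Eq.trans ?_ (val_zero _).symm)
  let z := (pullbackSymmetry W.hom (D.obj j).hom).hom y
  have hy : σ (D.obj j) z = y :=
    congrArg (fun k => k y) (pullbackSymmetry W.hom (D.obj j).hom).hom_inv_id
  refine Eq.trans ?_ (hj z)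
  refine congrArg (val (U := (EtCoh.bc (D.obj (op i)).hom).obj W) s) ?_
  exact (congrArg (vm (D.map a).left (Over.w _) W) hy).symm.trans
    (congrArg (fun k => k z) (hnat (D.map a)))

/-- Direct images of finite constant sheaves along the limit receive maps from constructible sheaves
through finite stages. -/
theorem homComm_system [CompactSpace X] [QuasiSeparatedSpace X] [Finite A] (hc : IsLimit c)
    {F : EtCoh.Ab X} (hF : EtPBC.IsConstructible F) : HomComm (systemCocone A D c) F := by
  have hW : ∀ (W : X.Etale), IsAffine W.left → ∀ n,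
      HomComm (systemCocone A D c) (EtPBC.extZeroConst W (ZMod n)) := fun W hW n => by
    haveI := hW
    refine ⟨fun f => ?_, fun j g hg => ?_⟩
    · obtain ⟨j, s, hs⟩ := exists_stage_section A D c W hc (homSect W n f)
      obtain ⟨k, a, ha⟩ := exists_stage_zero A D c W hc j (n • s) (by
        rw [map_nsmul, hs, nsmul_homSect])
      rw [map_nsmul] at ha
      obtain ⟨g, hg⟩ := exists_homSect_eq W n _ ha
      refine ⟨k, g, homSect_injective W n ?_⟩
      rw [homSect_comp, hg]
      exact (ConcreteCategory.congr_hom (congrArg (fun q => q.hom.app (op W))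
        ((systemCocone A D c).w a)) s).trans hs
    · obtain ⟨k, a, ha⟩ := exists_stage_zero A D c W hc j (homSect W n g) (by
        rw [← homSect_comp, hg, homSect_zero])
      refine ⟨k, a, homSect_injective W n ?_⟩
      rw [homSect_comp, homSect_zero]
      exact ha
  have hP : ∀ {G : EtCoh.Ab X}, EtPBC.IsConstructible G → ∀ (x : X)
      (a : (EtCoh.stalk (sepPoint X x)).obj G), ∃ n, 0 < n ∧ True ∧ n • a = 0 := fun {G} hG x a => by
    haveI := finite_stalk_of_isConstructible hG (sepPoint X x)
    exact ⟨_, Nat.card_pos, trivial, card_nsmul_eq_zero'⟩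
  obtain ⟨a, d, b, e, ⟨iso⟩⟩ := exists_presentation (fun _ => True) hF (hP hF) fun a d => hP
    (isConstructible_kernel_cokernel _ (isConstructible_biproduct _ fun i =>
      haveI : NeZero (d i).n := ⟨(d i).pos.ne'⟩
      isConstructible_extZeroConst _ (d i).isAffine _) hF).1
  exact (HomComm.cokernel _ (HomComm.biproduct _ fun i => hW _ (e i).isAffine _)
    (HomComm.biproduct _ fun i => hW _ (d i).isAffine _)).of_iso iso.symm

end Compact

end Groth.Agent.Et18.Embedding
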